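import Groth.Agent.ComodLib.Coalg
import Mathlib.RingTheory.Coalgebra.GroupLike
import Mathlib.RingTheory.Ideal.GoingUp
import Mathlib.FieldTheory.IsAlgClosed.Basic

/-!
# Group-like elements lift along coalgebra maps

Over an algebraically closed field a group-like element in the image of a map out of a cocommutative
coalgebra is the image of a group-like element.
-/

universe u v w

open TensorProduct WithConv

noncomputable section

namespace Groth.Agent.CharLift

open Groth.Agent.ComodLib

variable {k : Type u} [Field k]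

theorem tensor_ext_functionals {V : Type v} {W : Type w} [AddCommGroup V] [Module k V] [AddCommGroup W] [Module k W]
    {x y : V ⊗[k] W}
    (h : ∀ (φ : V →ₗ[k] k) (ψ : W →ₗ[k] k),
      LinearMap.mul' k k (TensorProduct.map φ ψ x) = LinearMap.mul' k k (TensorProduct.map φ ψ y)) : x = y := by
  let bV := Module.Basis.ofVectorSpace k V
  let bW := Module.Basis.ofVectorSpace k W
  refine (bV.tensorProduct bW).ext_elem fun ij => ?_
  have key : ∀ z : V ⊗[k] W, (bV.tensorProduct bW).repr z ij =
      LinearMap.mul' k k (TensorProduct.map (bV.coord ij.1) (bW.coord ij.2) z) := by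
    intro z
    induction z using TensorProduct.induction_on with
    | zero => simp
    | tmul a b => obtain ⟨i, j⟩ := ij; simp [Module.Basis.tensorProduct_repr_tmul_apply, mul_comm]
    | add a b ha hb => simp only [map_add, Finsupp.add_apply, ha, hb]
  rw [key, key, h]

/-- An algebra map from a subalgebra of a finite commutative algebra to the algebraically closed base extends. -/
theorem exists_extend_point [IsAlgClosed k] {S : Type v} [CommRing S] [Algebra k S] [Module.Finite k S]
    (T : Subalgebra k S) (χ : T →ₐ[k] k) : ∃ χ' : S →ₐ[k] k, ∀ t : T, χ' t = χ t := by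
  haveI : Module.Finite T S := Module.Finite.of_restrictScalars_finite k T S
  haveI : Algebra.IsIntegral T S := Algebra.IsIntegral.of_finite T S
  haveI hPp : (RingHom.ker χ).IsPrime := RingHom.ker_isPrime _
  have hPm : (RingHom.ker χ).IsMaximal :=
    RingHom.ker_isMaximal_of_surjective χ (fun c => ⟨algebraMap k T c, χ.commutes c⟩)
  obtain ⟨Q, hQm, hQ⟩ : ∃ Q : Ideal S, Q.IsMaximal ∧ Q.comap (algebraMap T S) = RingHom.ker χ :=
    Ideal.exists_ideal_over_maximal_of_isIntegral (RingHom.ker χ) (by
      rw [(RingHom.injective_iff_ker_eq_bot _).mp (fun a b hab => Subtype.ext hab)]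
      exact bot_le)
  letI : Field (S ⧸ Q) := Ideal.Quotient.field Q
  haveI : Module.Finite k (S ⧸ Q) :=
    Module.Finite.of_surjective (Ideal.Quotient.mkₐ k Q).toLinearMap Ideal.Quotient.mk_surjective
  haveI : Algebra.IsIntegral k (S ⧸ Q) := Algebra.IsIntegral.of_finite k _
  have hbij : Function.Bijective (algebraMap k (S ⧸ Q)) := IsAlgClosed.algebraMap_bijective_of_isIntegral
  let e : k ≃ₐ[k] S ⧸ Q := AlgEquiv.ofBijective (Algebra.ofId k _) hbij
  refine ⟨(e.symm : (S ⧸ Q) →ₐ[k] k).comp (Ideal.Quotient.mkₐ k Q), fun t => ?_⟩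
  show e.symm (Ideal.Quotient.mk Q (t : S)) = χ t
  rw [AlgEquiv.symm_apply_eq]
  have hmem : t - algebraMap k T (χ t) ∈ Q.comap (algebraMap T S) := by
    rw [hQ, RingHom.mem_ker, map_sub, AlgHom.commutes]
    exact sub_self _
  exact Ideal.Quotient.eq.mpr hmem

variable {A B : Type v} [AddCommGroup A] [Module k A] [Coalgebra k A] [AddCommGroup B] [Module k B] [Coalgebra k B]

/-- Precomposition with a coalgebra map on the convolution algebras of forms. -/
theorem pre_mul (π : B →ₗc[k] A) (φ ψ : WithConv (A →ₗ[k] k)) :
    toConv ((φ * ψ).ofConv ∘ₗ (π : B →ₗ[k] A)) =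
      toConv (φ.ofConv ∘ₗ (π : B →ₗ[k] A)) * toConv (ψ.ofConv ∘ₗ (π : B →ₗ[k] A)) := by
  apply WithConv.ofConv_injective
  refine LinearMap.ext fun b => ?_
  simp only [LinearMap.convMul_def, WithConv.ofConv_toConv, LinearMap.comp_apply]
  congr 1
  show TensorProduct.map φ.ofConv ψ.ofConv (Coalgebra.comul (R := k) (π b)) = _
  rw [← CoalgHomClass.map_comp_comul_apply π b, TensorProduct.map_map]

/-- Group-like elements in the image of a map out of a cocommutative coalgebra lift. -/
theorem exists_groupLike_lift [IsAlgClosed k] [Coalgebra.IsCocomm k B] (π : B →ₗc[k] A) {h : A}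
    (hh : IsGroupLikeElem k h) (hmem : h ∈ Set.range π) :
    ∃ g : B, IsGroupLikeElem k g ∧ π g = h := by
  classical
  obtain ⟨v₀, hv₀⟩ := hmem
  obtain ⟨U, hUfin, hvU, hU⟩ := exists_finite_subcomod_mem (k := k) (C := B) v₀
  haveI := hUfin
  -- the action on the finite subcomodule
  let act : WithConv (B →ₗ[k] k) →ₐ[k] Module.End k U :=
    { toFun := fun φ => (actF (V := B) φ.ofConv).restrict fun x hx => subcomod_actF_mem hU φ.ofConv hx
      map_one' := by
        refine LinearMap.ext fun x => Subtype.ext ?_
        show actF (V := B) (1 : WithConv (B →ₗ[k] k)).ofConv x.1 = x.1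
        exact LinearMap.congr_fun (map_one (convAction k B B)) x.1
      map_mul' := fun φ ψ => LinearMap.ext fun x => Subtype.ext (actF_convMul φ ψ x.1)
      map_zero' := LinearMap.ext fun x => Subtype.ext (LinearMap.congr_fun (actF_zero (k := k) (C := B) (V := B)) x.1)
      map_add' := fun φ ψ => LinearMap.ext fun x => Subtype.ext (LinearMap.congr_fun (actF_add φ.ofConv ψ.ofConv) x.1)
      commutes' := fun r => by
        refine LinearMap.ext fun x => Subtype.ext ?_
        show actF (V := B) (algebraMap k (WithConv (B →ₗ[k] k)) r).ofConv x.1 = r • x.1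
        exact (LinearMap.congr_fun ((convAction k B B).commutes r) x.1).trans rfl }
  have hcomm : ∀ φ ψ : WithConv (B →ₗ[k] k), φ * ψ = ψ * φ := by
    intro φ ψ
    apply WithConv.ofConv_injective
    refine LinearMap.ext fun b => ?_
    simp only [LinearMap.convMul_def, WithConv.ofConv_toConv, LinearMap.comp_apply]
    conv_lhs => rw [← Coalgebra.comm_comul k b]
    generalize Coalgebra.comul (R := k) b = z
    induction z using TensorProduct.induction_on with
    | zero => simp
    | tmul p q => simp [mul_comm]
    | add p q hp hq => simp only [map_add, hp, hq]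
  let S := act.range
  letI : CommRing S :=
    { (inferInstance : Ring S) with
      mul_comm := by
        rintro ⟨_, φ, rfl⟩ ⟨_, ψ, rfl⟩
        refine Subtype.ext ?_
        show act φ * act ψ = act ψ * act φ
        rw [← map_mul, ← map_mul, hcomm] }
  haveI : Module.Finite k S := inferInstanceAs (Module.Finite k (Subalgebra.toSubmodule S))
  let pre : WithConv (A →ₗ[k] k) →ₐ[k] WithConv (B →ₗ[k] k) :=
    { toFun := fun φ => toConv (φ.ofConv ∘ₗ (π : B →ₗ[k] A))
      map_one' := by
        apply WithConv.ofConv_injective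
        refine LinearMap.ext fun b => ?_
        simp
      map_mul' := pre_mul π
      map_zero' := by apply WithConv.ofConv_injective; ext; simp
      map_add' := fun φ ψ => by apply WithConv.ofConv_injective; ext; simp
      commutes' := fun r => by
        apply WithConv.ofConv_injective
        refine LinearMap.ext fun b => ?_
        simp [Algebra.algebraMap_eq_smul_one] }
  let f : WithConv (A →ₗ[k] k) →ₐ[k] S := act.rangeRestrict.comp pre
  let T : Subalgebra k S := f.range
  -- evaluation at `h`, read off from the action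
  let L : Module.End k U →ₗ[k] k :=
    (Coalgebra.counit (R := k) (A := A)) ∘ₗ (π : B →ₗ[k] A) ∘ₗ U.subtype ∘ₗ LinearMap.applyₗ (⟨v₀, hvU⟩ : U)
  have hL : ∀ φ : WithConv (A →ₗ[k] k), L (f φ : Module.End k U) = φ.ofConv h := by
    intro φ
    show Coalgebra.counit (R := k) (π (slice (φ.ofConv ∘ₗ (π : B →ₗ[k] A)) (Coalgebra.comul (R := k) v₀))) = _
    have h1 : ∀ z : B ⊗[k] B, π (slice (φ.ofConv ∘ₗ (π : B →ₗ[k] A)) z) =
        slice φ.ofConv (TensorProduct.map (π : B →ₗ[k] A) (π : B →ₗ[k] A) z) := fun z => by
      induction z using TensorProduct.induction_on with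
      | zero => simp
      | tmul p q => simp [slice_tmul]
      | add p q hp hq => simp only [map_add, hp, hq]
    rw [h1, CoalgHomClass.map_comp_comul_apply, hv₀, hh.comul_eq_tmul_self, slice_tmul, map_smul,
      hh.counit_eq_one]
    simp
  let χ : T →ₐ[k] k := AlgHom.ofLinearMap (L ∘ₗ S.val.toLinearMap ∘ₗ T.val.toLinearMap)
    (by
      show L (((1 : T) : S) : Module.End k U) = 1
      have := hL 1
      rw [map_one] at this
      rw [OneMemClass.coe_one]
      exact this.trans (by simp [hh.counit_eq_one]))
    (by
      rintro ⟨_, φ, rfl⟩ ⟨_, ψ, rfl⟩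
      show L ((f φ * f ψ : S) : Module.End k U) = L (f φ : Module.End k U) * L (f ψ : Module.End k U)
      rw [← map_mul, hL, hL, hL]
      simp [LinearMap.convMul_def, hh.comul_eq_tmul_self])
  obtain ⟨χ', hχ'⟩ := exists_extend_point T χ
  obtain ⟨L', hL'⟩ := LinearMap.exists_extend (p := Subalgebra.toSubmodule S) χ'.toLinearMap
  let b := Module.finBasis k U
  choose cd hcd using fun j => LinearMap.exists_extend (p := U) (b.coord j)
  let E := fun i j => b.constr k (fun l => if l = i then b j else 0)
  let g : B := ∑ i, ∑ j, L' (E i j) • coefFun (C := B) (V := B) (cd j) (b i : B)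
  have hexp : ∀ φ : WithConv (B →ₗ[k] k), φ.ofConv g = χ' (act.rangeRestrict φ) := by
    intro φ
    have h2 : χ' (act.rangeRestrict φ) = L' (act φ) :=
      (LinearMap.congr_fun hL' ⟨act φ, φ, rfl⟩).symm
    have h3 : act φ = ∑ i, ∑ j, b.coord j (act φ (b i)) • E i j := by
      refine b.ext fun l => ?_
      simp [E, Module.Basis.constr_basis, LinearMap.sum_apply, b.sum_repr, smul_ite]
    rw [h2, h3]
    simp only [g, map_sum, map_smul]
    refine Finset.sum_congr rfl fun i _ => Finset.sum_congr rfl fun j _ => ?_
    rw [smul_eq_mul, smul_eq_mul, mul_comm]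
    congr 1
    rw [← LinearMap.congr_fun (hcd j) (act φ (b i)), LinearMap.comp_apply]
    show _ = cd j (slice φ.ofConv (Coalgebra.comul (R := k) (b i : B)))
    rw [coefFun_apply]
    show φ.ofConv (TensorProduct.lid k B ((cd j).rTensor B (Coalgebra.comul (R := k) (b i : B)))) = _
    generalize Coalgebra.comul (R := k) (b i : B) = z
    induction z using TensorProduct.induction_on with
    | zero => simp
    | tmul p q => simp [slice_tmul, mul_comm]
    | add p q hp hq => simp only [map_add, hp, hq]
  refine ⟨g, ⟨?_, ?_⟩, ?_⟩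
  · have := hexp 1
    rw [map_one, map_one] at this
    simpa using this
  · refine tensor_ext_functionals fun φ ψ => ?_
    rw [TensorProduct.map_tmul, LinearMap.mul'_apply]
    have := hexp (toConv φ * toConv ψ)
    rw [map_mul, map_mul, ← hexp, ← hexp] at this
    simpa [LinearMap.convMul_def] using this
  · rw [← sub_eq_zero]
    refine (Module.forall_dual_apply_eq_zero_iff k _).mp fun φ => ?_
    rw [map_sub, sub_eq_zero]
    refine (hexp (pre (toConv φ))).trans ((hχ' ⟨f (toConv φ), toConv φ, rfl⟩).trans (hL _))

end Groth.Agent.CharLift
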