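import Groth.Agent.CharLift.Basic
import Groth.Agent.GrpSchLib.HopfFlat
import Groth.Agent.MultTypeLib.Lift
import Mathlib.RingTheory.Norm.Basic
import Mathlib.RingTheory.HopfAlgebra.GroupLike
import Mathlib.RingTheory.TensorProduct.Free
import Mathlib.RingTheory.Flat.FaithfullyFlat.Algebra
import Mathlib.GroupTheory.Finiteness

/-!
# A power of a group-like element in the image lifts, over any field
-/

universe u v

open TensorProduct WithConv

noncomputable section

namespace Groth.Agent.CharLift

open Groth.Agent.ComodLib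

variable {k : Type u} [Field k]

/-- Norms along a constant finite free algebra commute with ring maps. -/
theorem norm_map {B C : Type u} [CommRing B] [CommRing C] [Algebra k B] [Algebra k C] (f : B →ₐ[k] C)
    (K : Type u) [CommRing K] [Algebra k K] [Module.Finite k K] (x : B ⊗[k] K) :
    Algebra.norm C (Algebra.TensorProduct.map f (AlgHom.id k K) x) = f (Algebra.norm B x) := by
  classical
  let b := Module.finBasis k K
  let bB := Algebra.TensorProduct.basis B b
  let bC := Algebra.TensorProduct.basis C b
  have key : ∀ (y : B ⊗[k] K) i, bC.repr (Algebra.TensorProduct.map f (AlgHom.id k K) y) i = f (bB.repr y i) := by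
    intro y i
    induction y using TensorProduct.induction_on with
    | zero => simp
    | tmul p q => simp [bB, bC]
    | add p q hp hq => simp only [map_add, Finsupp.add_apply, hp, hq]
  rw [Algebra.norm_eq_matrix_det bC, Algebra.norm_eq_matrix_det bB, AlgHom.map_det]
  congr 1
  refine Matrix.ext fun i j => ?_
  rw [AlgHom.mapMatrix_apply, Matrix.map_apply, Algebra.leftMulMatrix_eq_repr_mul,
    Algebra.leftMulMatrix_eq_repr_mul, ← key, map_mul (Algebra.TensorProduct.map f (AlgHom.id k K))]
  simp [bB, bC, Algebra.TensorProduct.basis_apply]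

/-- An algebra map from a subalgebra of a finite commutative algebra to the base extends to a finite field. -/
theorem exists_extend_finite_field {S : Type u} [CommRing S] [Algebra k S] [Module.Finite k S]
    (T : Subalgebra k S) (χ : T →ₐ[k] k) :
    ∃ (K : Type u) (_ : Field K) (_ : Algebra k K) (_ : Module.Finite k K) (χ' : S →ₐ[k] K),
      ∀ t : T, χ' t = algebraMap k K (χ t) := by
  haveI : Module.Finite T S := Module.Finite.of_restrictScalars_finite k T S
  haveI : Algebra.IsIntegral T S := Algebra.IsIntegral.of_finite T S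
  haveI hPp : (RingHom.ker χ).IsPrime := RingHom.ker_isPrime _
  have hPm : (RingHom.ker χ).IsMaximal :=
    RingHom.ker_isMaximal_of_surjective χ (fun c => ⟨algebraMap k T c, χ.commutes c⟩)
  obtain ⟨Q, hQm, hQ⟩ : ∃ Q : Ideal S, Q.IsMaximal ∧ Q.comap (algebraMap T S) = RingHom.ker χ :=
    Ideal.exists_ideal_over_maximal_of_isIntegral (RingHom.ker χ) (by
      rw [(RingHom.injective_iff_ker_eq_bot _).mp (fun a b hab => Subtype.ext hab)]
      exact bot_le)
  letI : Field (S ⧸ Q) := Ideal.Quotient.field Q
  haveI : Module.Finite k (S ⧸ Q) :=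
    Module.Finite.of_surjective (Ideal.Quotient.mkₐ k Q).toLinearMap Ideal.Quotient.mk_surjective
  refine ⟨S ⧸ Q, inferInstance, inferInstance, inferInstance, Ideal.Quotient.mkₐ k Q, fun t => ?_⟩
  have hmem : t - algebraMap k T (χ t) ∈ Q.comap (algebraMap T S) := by
    rw [hQ, RingHom.mem_ker, map_sub, AlgHom.commutes]
    exact sub_self _
  exact Ideal.Quotient.eq.mpr hmem

section

variable {B : Type u} [CommRing B] [Algebra k B] {K : Type u} [CommRing K] [Algebra k K]

/-- Contracting the left factor against a form. -/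
def contr (φ : B →ₗ[k] k) : B ⊗[k] K →ₗ[k] K := (TensorProduct.lid k K).toLinearMap ∘ₗ φ.rTensor K

theorem contr_tmul (φ : B →ₗ[k] k) (b : B) (c : K) : contr φ (b ⊗ₜ[k] c) = φ b • c := rfl

theorem contr_ext {x y : B ⊗[k] K} (h : ∀ φ : B →ₗ[k] k, contr φ x = contr φ y) : x = y := by
  refine tensor_ext_functionals fun φ ψ => ?_
  have key : ∀ z : B ⊗[k] K, LinearMap.mul' k k (TensorProduct.map φ ψ z) = ψ (contr φ z) := fun z => by
    induction z using TensorProduct.induction_on with
    | zero => simp
    | tmul p q => simp [contr_tmul]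
    | add p q hp hq => simp only [map_add, hp, hq]
  rw [key, key, h]

theorem contr₂_ext {C : Type u} [CommRing C] [Algebra k C] {x y : (B ⊗[k] C) ⊗[k] K}
    (h : ∀ (φ : B →ₗ[k] k) (ψ : C →ₗ[k] k),
      contr (LinearMap.mul' k k ∘ₗ TensorProduct.map φ ψ) x = contr (LinearMap.mul' k k ∘ₗ TensorProduct.map φ ψ) y) :
    x = y := by
  refine ext_of_forall_slice_eq (k := k) (C := K) fun ξ => ?_
  refine tensor_ext_functionals fun φ ψ => ?_
  have key : ∀ z : (B ⊗[k] C) ⊗[k] K, LinearMap.mul' k k (TensorProduct.map φ ψ (slice ξ z)) =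
      ξ (contr (LinearMap.mul' k k ∘ₗ TensorProduct.map φ ψ) z) := fun z => by
    induction z using TensorProduct.induction_on with
    | zero => simp
    | tmul p q => simp [contr_tmul, slice_tmul, mul_comm]
    | add p q hp hq => simp only [map_add, hp, hq]
  rw [key, key, h]

end

variable {A B : Type u} [CommRing A] [Bialgebra k A] [CommRing B] [Bialgebra k B]


/-- A positive power of a group-like element in the image lifts to a group-like element. -/
theorem exists_groupLike_lift_pow [Coalgebra.IsCocomm k B] (π : B →ₐc[k] A) {h : A}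
    (hh : IsGroupLikeElem k h) (hmem : h ∈ Set.range π) :
    ∃ (n : ℕ) (g : B), 0 < n ∧ IsGroupLikeElem k g ∧ π g = h ^ n := by
  classical
  obtain ⟨v₀, hv₀⟩ := hmem
  obtain ⟨U, hUfin, hvU, hU⟩ := exists_finite_subcomod_mem (k := k) (C := B) v₀
  haveI := hUfin
  let act : WithConv (B →ₗ[k] k) →ₐ[k] Module.End k U :=
    { toFun := fun φ => (actF (V := B) φ.ofConv).restrict fun x hx => subcomod_actF_mem hU φ.ofConv hx
      map_one' := by
        refine LinearMap.ext fun x => Subtype.ext ?_
        show actF (V := B) (1 : WithConv (B →ₗ[k] k)).ofConv x.1 = x.1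
        exact LinearMap.congr_fun (map_one (convAction k B B)) x.1
      map_mul' := fun φ ψ => LinearMap.ext fun x => Subtype.ext (actF_convMul φ ψ x.1)
      map_zero' := LinearMap.ext fun x => Subtype.ext (LinearMap.congr_fun (actF_zero (k := k) (C := B) (V := B)) x.1)
      map_add' := fun φ ψ => LinearMap.ext fun x => Subtype.ext (LinearMap.congr_fun (actF_add φ.ofConv ψ.ofConv) x.1)
      commutes' := fun r => by
        refine LinearMap.ext fun x => Subtype.ext ?_
        show actF (V := B) (algebraMap k (WithConv (B →ₗ[k] k)) r).ofConv x.1 = r • x.1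
        exact (LinearMap.congr_fun ((convAction k B B).commutes r) x.1).trans rfl }
  have hcomm : ∀ φ ψ : WithConv (B →ₗ[k] k), φ * ψ = ψ * φ := by
    intro φ ψ
    apply WithConv.ofConv_injective
    refine LinearMap.ext fun b => ?_
    simp only [LinearMap.convMul_def, WithConv.ofConv_toConv, LinearMap.comp_apply]
    conv_lhs => rw [← Coalgebra.comm_comul k b]
    generalize Coalgebra.comul (R := k) b = z
    induction z using TensorProduct.induction_on with
    | zero => simp
    | tmul p q => simp [mul_comm]
    | add p q hp hq => simp only [map_add, hp, hq]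
  let S := act.range
  letI : CommRing S :=
    { (@Subalgebra.toRing k (Module.End k U) _ _ _ S : Ring S) with
      mul_comm := by
        rintro ⟨_, φ, rfl⟩ ⟨_, ψ, rfl⟩
        refine Subtype.ext ?_
        show act φ * act ψ = act ψ * act φ
        rw [← map_mul, ← map_mul, hcomm] }
  haveI : Module.Finite k S := inferInstanceAs (Module.Finite k (Subalgebra.toSubmodule S))
  let pre : WithConv (A →ₗ[k] k) →ₐ[k] WithConv (B →ₗ[k] k) :=
    { toFun := fun φ => toConv (φ.ofConv ∘ₗ ((π : B →ₗc[k] A) : B →ₗ[k] A))
      map_one' := by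
        apply WithConv.ofConv_injective
        refine LinearMap.ext fun b => ?_
        simp
      map_mul' := pre_mul (π : B →ₗc[k] A)
      map_zero' := by apply WithConv.ofConv_injective; ext; simp
      map_add' := fun φ ψ => by apply WithConv.ofConv_injective; ext; simp
      commutes' := fun r => by
        apply WithConv.ofConv_injective
        refine LinearMap.ext fun b => ?_
        simp [Algebra.algebraMap_eq_smul_one] }
  let f : WithConv (A →ₗ[k] k) →ₐ[k] S := act.rangeRestrict.comp pre
  let T : Subalgebra k S := f.range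
  let L : Module.End k U →ₗ[k] k :=
    (Coalgebra.counit (R := k) (A := A)) ∘ₗ ((π : B →ₗc[k] A) : B →ₗ[k] A) ∘ₗ U.subtype ∘ₗ
      LinearMap.applyₗ (⟨v₀, hvU⟩ : U)
  have hL : ∀ φ : WithConv (A →ₗ[k] k), L (f φ : Module.End k U) = φ.ofConv h := by
    intro φ
    show Coalgebra.counit (R := k) (π (slice (φ.ofConv ∘ₗ ((π : B →ₗc[k] A) : B →ₗ[k] A))
      (Coalgebra.comul (R := k) v₀))) = _
    have h1 : ∀ z : B ⊗[k] B, π (slice (φ.ofConv ∘ₗ ((π : B →ₗc[k] A) : B →ₗ[k] A)) z) =
        slice φ.ofConv (TensorProduct.map ((π : B →ₗc[k] A) : B →ₗ[k] A) ((π : B →ₗc[k] A) : B →ₗ[k] A) z) :=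
      fun z => by
      induction z using TensorProduct.induction_on with
      | zero => simp
      | tmul p q => simp [slice_tmul]
      | add p q hp hq => simp only [map_add, hp, hq]
    rw [h1, CoalgHomClass.map_comp_comul_apply]
    show Coalgebra.counit (R := k) (slice φ.ofConv (Coalgebra.comul (R := k) (π v₀))) = _
    rw [hv₀, hh.comul_eq_tmul_self, slice_tmul, map_smul, hh.counit_eq_one]
    simp
  let χ : T →ₐ[k] k := AlgHom.ofLinearMap (L ∘ₗ S.val.toLinearMap ∘ₗ T.val.toLinearMap)
    (by
      show L (((1 : T) : S) : Module.End k U) = 1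
      have := hL 1
      rw [map_one] at this
      rw [OneMemClass.coe_one]
      exact this.trans (by simp [hh.counit_eq_one]))
    (by
      rintro ⟨_, φ, rfl⟩ ⟨_, ψ, rfl⟩
      show L ((f φ * f ψ : S) : Module.End k U) = L (f φ : Module.End k U) * L (f ψ : Module.End k U)
      rw [← map_mul, hL, hL, hL]
      simp [LinearMap.convMul_def, hh.comul_eq_tmul_self])
  obtain ⟨K, _, _, _, χ', hχ'⟩ := exists_extend_finite_field T χ
  let lin : ↥(Subalgebra.toSubmodule S) →ₗ[k] K :=
    { toFun := fun s => χ' ⟨s.1, s.2⟩
      map_add' := fun x y => map_add χ' ⟨x.1, x.2⟩ ⟨y.1, y.2⟩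
      map_smul' := fun c x => map_smul χ' c ⟨x.1, x.2⟩ }
  obtain ⟨L', hL'⟩ := @LinearMap.exists_extend k (Module.End k U) K _ _ _ _ _ (Subalgebra.toSubmodule S) lin
  let b := Module.finBasis k U
  choose cd hcd using fun j => LinearMap.exists_extend (p := U) (b.coord j)
  let E := fun i j => b.constr k (fun l => if l = i then b j else 0)
  let g : B ⊗[k] K := ∑ i, ∑ j, coefFun (C := B) (V := B) (cd j) (b i : B) ⊗ₜ[k] L' (E i j)
  have hexp : ∀ φ : WithConv (B →ₗ[k] k), contr φ.ofConv g = χ' (act.rangeRestrict φ) := by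
    intro φ
    have h2 : χ' (act.rangeRestrict φ) = L' (act φ) :=
      (LinearMap.congr_fun hL' ⟨act φ, φ, rfl⟩).symm
    have h3 : act φ = ∑ i, ∑ j, b.coord j (act φ (b i)) • E i j := by
      refine b.ext fun l => ?_
      simp [E, Module.Basis.constr_basis, LinearMap.sum_apply, b.sum_repr, smul_ite]
    rw [h2, h3]
    simp only [g, map_sum, map_smul, contr_tmul]
    refine Finset.sum_congr rfl fun i _ => Finset.sum_congr rfl fun j _ => ?_
    congr 1
    rw [← LinearMap.congr_fun (hcd j) (act φ (b i)), LinearMap.comp_apply]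
    show _ = cd j (slice φ.ofConv (Coalgebra.comul (R := k) (b i : B)))
    rw [coefFun_apply]
    show φ.ofConv (TensorProduct.lid k B ((cd j).rTensor B (Coalgebra.comul (R := k) (b i : B)))) = _
    generalize Coalgebra.comul (R := k) (b i : B) = z
    induction z using TensorProduct.induction_on with
    | zero => simp
    | tmul p q => simp [slice_tmul, mul_comm]
    | add p q hp hq => simp only [map_add, hp, hq]
  -- the three identities over the finite field
  let εA : B →ₐ[k] k := Bialgebra.counitAlgHom k B
  let ΔA : B →ₐ[k] B ⊗[k] B := Bialgebra.comulAlgHom k B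
  let i₁ : B →ₐ[k] B ⊗[k] B := Algebra.TensorProduct.includeLeft
  let i₂ : B →ₐ[k] B ⊗[k] B := Algebra.TensorProduct.includeRight
  have hε : Algebra.TensorProduct.map εA (AlgHom.id k K) g = 1 := by
    refine contr_ext fun φ => ?_
    have h1 : ∀ z : B ⊗[k] K, contr φ (Algebra.TensorProduct.map εA (AlgHom.id k K) z) =
        φ 1 • contr (1 : WithConv (B →ₗ[k] k)).ofConv z := fun z => by
      induction z using TensorProduct.induction_on with
      | zero => simp
      | tmul p q =>
        simp only [Algebra.TensorProduct.map_tmul, contr_tmul, AlgHom.coe_id, id_eq, smul_smul]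
        congr 1
        rw [show εA p = εA p • (1 : k) by simp, map_smul]
        simp [εA, mul_comm]
      | add p q hp hq => simp only [map_add, hp, hq, smul_add]
    rw [h1, hexp, map_one act.rangeRestrict, map_one χ', Algebra.TensorProduct.one_def, contr_tmul]
  have hΔ : Algebra.TensorProduct.map ΔA (AlgHom.id k K) g =
      Algebra.TensorProduct.map i₁ (AlgHom.id k K) g * Algebra.TensorProduct.map i₂ (AlgHom.id k K) g := by
    refine contr₂_ext fun φ ψ => ?_
    have h1 : ∀ z : B ⊗[k] K, contr (LinearMap.mul' k k ∘ₗ TensorProduct.map φ ψ)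
        (Algebra.TensorProduct.map ΔA (AlgHom.id k K) z) = contr (toConv φ * toConv ψ).ofConv z := fun z => by
      induction z using TensorProduct.induction_on with
      | zero => simp
      | tmul p q => simp [contr_tmul, ΔA, LinearMap.convMul_def]
      | add p q hp hq => simp only [map_add, hp, hq]
    have h2 : ∀ x y : B ⊗[k] K, contr (LinearMap.mul' k k ∘ₗ TensorProduct.map φ ψ)
        (Algebra.TensorProduct.map i₁ (AlgHom.id k K) x * Algebra.TensorProduct.map i₂ (AlgHom.id k K) y) =
        contr φ x * contr ψ y := fun x y => by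
      induction x using TensorProduct.induction_on with
      | zero => simp
      | tmul p q =>
        induction y using TensorProduct.induction_on with
        | zero => simp
        | tmul r s => simp [contr_tmul, i₁, i₂, smul_smul, mul_comm]
        | add a c ha hc => simp only [map_add, mul_add, ha, hc]
      | add a c ha hc => simp only [map_add, add_mul, ha, hc]
    rw [h1, h2, hexp, map_mul, map_mul, ← hexp, ← hexp]
  have hπ : Algebra.TensorProduct.map (π : B →ₐ[k] A) (AlgHom.id k K) g = algebraMap A (A ⊗[k] K) h := by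
    refine contr_ext fun φ => ?_
    have h1 : ∀ z : B ⊗[k] K, contr φ (Algebra.TensorProduct.map (π : B →ₐ[k] A) (AlgHom.id k K) z) =
        contr (pre (toConv φ)).ofConv z := fun z => by
      induction z using TensorProduct.induction_on with
      | zero => simp
      | tmul p q => rfl
      | add p q hp hq => simp only [map_add, hp, hq]
    rw [h1, hexp]
    refine (hχ' ⟨f (toConv φ), toConv φ, rfl⟩).trans ?_
    show algebraMap k K (L (f (toConv φ) : Module.End k U)) = contr φ (h ⊗ₜ[k] 1)
    rw [hL, contr_tmul, Algebra.algebraMap_eq_smul_one]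
  refine ⟨Module.finrank k K, Algebra.norm B g, Module.finrank_pos, ⟨?_, ?_⟩, ?_⟩
  · show εA (Algebra.norm B g) = 1
    rw [← norm_map, hε, map_one]
  · show ΔA (Algebra.norm B g) = _
    rw [← norm_map, hΔ, map_mul, norm_map, norm_map]
    simp [i₁, i₂]
  · show (π : B →ₐ[k] A) (Algebra.norm B g) = _
    rw [← norm_map, hπ, Algebra.norm_algebraMap_of_basis (Algebra.TensorProduct.basis A (Module.finBasis k K)),
      Fintype.card_fin]

/-- The group algebra of a group of group-like elements is embedded. -/
theorem injective_homOfGroupLike {A : Type u} [CommRing A] [HopfAlgebra k A] {M : Type u} [CommGroup M]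
    (g : M →* A) (hg : ∀ m, IsGroupLikeElem k (g m)) (hinj : Function.Injective g) :
    Function.Injective (MultTypeLib.homOfGroupLike g hg) := by
  rw [injective_iff_map_eq_zero]
  intro x hx
  have hfx : MultTypeLib.homOfGroupLike g hg x = x.coeff.sum fun m r => r • g m := by
    conv_lhs => rw [← MonoidAlgebra.sum_coeff_single x]
    simp only [map_finsuppSum, MultTypeLib.homOfGroupLike_single]
  have hli : LinearIndependent k g :=
    (linearIndepOn_isGroupLikeElem (R := k) (A := A)).linearIndependent.comp
      (fun m : M => (⟨g m, hg m⟩ : {a : A | IsGroupLikeElem k a}))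
      (fun a c hac => hinj (congrArg Subtype.val hac))
  rw [hfx] at hx
  exact MonoidAlgebra.coeff_injective (linearIndependent_iff.mp hli x.coeff hx)

/-- The group-like elements of a finitely generated commutative Hopf algebra form a finitely generated group. -/
theorem fg_groupLike (A : Type u) [CommRing A] [HopfAlgebra k A] [Algebra.FiniteType k A] :
    Group.FG (GroupLike k A) := by
  classical
  haveI : IsNoetherianRing A := Algebra.FiniteType.isNoetherianRing k A
  obtain ⟨s, hs, hspan⟩ : ∃ s : Finset A, (↑s ⊆ Set.range fun m : GroupLike k A => (m.1 : A) - 1) ∧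
      Ideal.span (Set.range fun m : GroupLike k A => (m.1 : A) - 1) = Ideal.span (s : Set A) :=
    Submodule.fg_span_iff_fg_span_finset_subset _ |>.mp (IsNoetherian.noetherian _)
  choose pr hpr using fun a : s => hs a.2
  rw [Group.fg_iff]
  refine ⟨Set.range pr, eq_top_iff.mpr fun m _ => ?_, Set.finite_range _⟩
  let N : Subgroup (GroupLike k A) := Subgroup.closure (insert m (Set.range pr))
  haveI : Group.FG N :=
    (Group.fg_iff_subgroup_fg N).mpr ((Subgroup.fg_iff N).mpr ⟨_, rfl, (Set.finite_range pr).insert m⟩)
  haveI : Monoid.FG N := Group.fg_iff_monoid_fg.mp inferInstance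
  let g : N →* A :=
    { toFun := fun n => (n.1.1 : A)
      map_one' := rfl
      map_mul' := fun _ _ => rfl }
  let f : MonoidAlgebra k N →ₐc[k] A := MultTypeLib.homOfGroupLike g fun n => n.1.2
  have hf : Function.Injective f :=
    injective_homOfGroupLike g _ fun a b h => Subtype.ext (GroupLike.ext h)
  let f' : MonoidAlgebra k N →+* A := (f : MonoidAlgebra k N →ₐ[k] A).toRingHom
  have hf' : ∀ n : N, f' (MonoidAlgebra.single n (1 : k)) = (n.1.1 : A) := fun n => by
    show f (MonoidAlgebra.single n (1 : k)) = _
    rw [MultTypeLib.homOfGroupLike_single, one_smul]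
    rfl
  have hff : f'.FaithfullyFlat := GrpSchLib.HopfFlat.faithfullyFlat f hf
  let pr' : s → N := fun a => ⟨pr a, Subgroup.subset_closure (Set.mem_insert_of_mem _ ⟨a, rfl⟩)⟩
  let m' : N := ⟨m, Subgroup.subset_closure (Set.mem_insert m _)⟩
  let H : Subgroup N := Subgroup.closure (Set.range pr')
  let J : Ideal (MonoidAlgebra k N) :=
    Ideal.span (Set.range fun a : s => MonoidAlgebra.single (pr' a) (1 : k) - 1)
  have h1 : MonoidAlgebra.single m' (1 : k) - 1 ∈ (J.map f').comap f' := by
    rw [Ideal.mem_comap, map_sub, map_one, hf']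
    have hm : (m.1 : A) - 1 ∈ Ideal.span (s : Set A) := hspan ▸ Ideal.subset_span ⟨m, rfl⟩
    refine Ideal.span_le.mpr (fun a ha => ?_) hm
    have h : f' (MonoidAlgebra.single (pr' ⟨a, ha⟩) (1 : k) - 1) ∈ J.map f' :=
      Ideal.mem_map_of_mem _ (Ideal.subset_span ⟨⟨a, ha⟩, rfl⟩)
    rw [map_sub, map_one, hf'] at h
    have ha' : (pr ⟨a, ha⟩).1 - 1 = a := hpr ⟨a, ha⟩
    rw [← ha']
    exact h
  rw [show (J.map f').comap f' = J by
    letI := f'.toAlgebra
    haveI : Module.FaithfullyFlat (MonoidAlgebra k N) A := hff
    exact Ideal.comap_map_eq_self_of_faithfullyFlat J] at h1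
  let q : MonoidAlgebra k N →ₐ[k] MonoidAlgebra k (N ⧸ H) :=
    MonoidAlgebra.mapDomainAlgHom k k (QuotientGroup.mk' H)
  have hJ : J ≤ RingHom.ker q := by
    refine Ideal.span_le.mpr ?_
    rintro _ ⟨a, rfl⟩
    have : ((pr' a : N) : N ⧸ H) = 1 :=
      (QuotientGroup.eq_one_iff _).mpr (Subgroup.subset_closure ⟨a, rfl⟩)
    rw [SetLike.mem_coe, RingHom.mem_ker, map_sub, map_one, sub_eq_zero]
    show MonoidAlgebra.mapDomain (QuotientGroup.mk' H) (MonoidAlgebra.single (pr' a) (1 : k)) = _
    rw [MonoidAlgebra.mapDomain_single, QuotientGroup.mk'_apply, this, MonoidAlgebra.one_def]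
  have h2 := hJ h1
  rw [RingHom.mem_ker, map_sub, map_one, sub_eq_zero] at h2
  have h3 : MonoidAlgebra.single ((QuotientGroup.mk' H) m') (1 : k) = MonoidAlgebra.single 1 1 := by
    simpa [q, MonoidAlgebra.one_def] using h2
  have h4 : m' ∈ H := (QuotientGroup.eq_one_iff _).mp (MonoidAlgebra.single_left_injective one_ne_zero h3)
  have h5 : H.map N.subtype = Subgroup.closure (Set.range pr) := by
    rw [MonoidHom.map_closure, ← Set.range_comp]
    rfl
  exact h5 ▸ Subgroup.mem_map_of_mem N.subtype h4

end Groth.Agent.CharLift
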